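import Groth.Prelude.Def_FEt
import Mathlib.AlgebraicGeometry.Normalization
/-!
Extension of a finite étale cover of an open, from finiteness and étaleness of its rings of sections
(variant of `PurityLib.exists_extension`).
-/

set_option autoImplicit false
set_option linter.style.haveILetI false
universe u
open CategoryTheory CategoryTheory.Limits AlgebraicGeometry Opposite TopologicalSpace

namespace Groth.Agent.PurePairDesc

variable {X : Scheme.{u}} [IsLocallyNoetherian X] (U : X.Opens) {Y : Scheme.{u}} (f : Y ⟶ U.toScheme)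
  [IsFinite f] [Etale f]

theorem exists_extension_of_app
    (hfe : ∀ V : X.Opens, IsAffineOpen V → ((f ≫ U.ι).app V).hom.Finite ∧ ((f ≫ U.ι).app V).hom.Etale) :
    ∃ (Z : Scheme.{u}) (π : Z ⟶ X) (j : Y ⟶ Z), IsFinite π ∧ Etale π ∧ IsPullback j f π U.ι := by
  let g : Y ⟶ X := f ≫ U.ι
  haveI : QuasiCompact g := inferInstanceAs (QuasiCompact (f ≫ U.ι))
  haveI : QuasiSeparated g := inferInstanceAs (QuasiSeparated (f ≫ U.ι))
  let π : g.normalization ⟶ X := g.fromNormalization
  -- on an affine open the integral closure is everything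
  have hall : ∀ V : X.affineOpens, letI := (g.app V.1).hom.toAlgebra
      Function.Bijective (integralClosure Γ(X, V.1) Γ(Y, g ⁻¹ᵁ V.1)).val := fun V => by
    letI := (g.app V.1).hom.toAlgebra
    haveI : Module.Finite Γ(X, V.1) Γ(Y, g ⁻¹ᵁ V.1) := (hfe V.1 V.2).1
    exact ⟨Subtype.val_injective, fun b => ⟨⟨b, Algebra.IsIntegral.isIntegral b⟩, rfl⟩⟩
  have hdiag : ∀ V : X.affineOpens, (g.normalizationDiagramMap.app (op V.1)).hom.Finite ∧
      (g.normalizationDiagramMap.app (op V.1)).hom.Etale := fun V => by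
    letI := (g.app V.1).hom.toAlgebra
    obtain ⟨h1, h2⟩ := hfe V.1 V.2
    let e : integralClosure Γ(X, V.1) Γ(Y, g ⁻¹ᵁ V.1) ≃ₐ[Γ(X, V.1)] Γ(Y, g ⁻¹ᵁ V.1) :=
      AlgEquiv.ofBijective _ (hall V)
    haveI : Module.Finite Γ(X, V.1) Γ(Y, g ⁻¹ᵁ V.1) := h1
    haveI : Algebra.Etale Γ(X, V.1) Γ(Y, g ⁻¹ᵁ V.1) := h2
    exact ⟨RingHom.finite_algebraMap.2 (Module.Finite.equiv e.symm.toLinearEquiv),
      RingHom.etale_algebraMap.2 (Algebra.Etale.of_equiv e.symm)⟩
  have hloc : ∀ (P : MorphismProperty Scheme.{u}) [IsZariskiLocalAtTarget P],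
      (∀ V : X.affineOpens, P (Spec.map (g.normalizationDiagramMap.app (op V.1)))) → P π := fun P _ hP => by
    rw [IsZariskiLocalAtTarget.iff_of_iSup_eq_top (P := P) _ (iSup_affineOpens_eq_top _)]
    intro V
    let e := IsOpenImmersion.isoOfRangeEq (π ⁻¹ᵁ V.1).ι (g.normalizationOpenCover.f V)
      (by simpa using congr($(g.fromNormalization_preimage V).1))
    rw [← MorphismProperty.cancel_left_of_respectsIso P e.inv,
      ← MorphismProperty.cancel_right_of_respectsIso P _ V.2.isoSpec.hom]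
    convert! hP V
    rw [← cancel_mono V.2.fromSpec]
    simp [IsAffineOpen.isoSpec_hom, e, π, Scheme.Hom.ι_fromNormalization]
    rfl
  haveI hπf : IsFinite π := hloc @IsFinite fun V => (IsFinite.SpecMap_iff _).2 (hdiag V).1
  haveI hπe : Etale π := hloc @Etale fun V => (HasRingHomProperty.Spec_iff (P := @Etale)).2 (hdiag V).2
  refine ⟨g.normalization, π, g.toNormalization, hπf, hπe, ?_⟩
  let U' : g.normalization.Opens := π ⁻¹ᵁ U
  have hsrc : g.toNormalization ⁻¹ᵁ U' = ⊤ := by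
    show (g.toNormalization ≫ π) ⁻¹ᵁ U = ⊤
    rw [Scheme.Hom.toNormalization_fromNormalization]
    exact top_le_iff.1 fun z _ => (f z).2
  have hiso : IsIso (g.toNormalization ∣_ U') := by
    let S := {V : X.affineOpens // V.1 ≤ U}
    have hS : ⨆ V : S, U'.ι ⁻¹ᵁ (π ⁻¹ᵁ V.1.1) = ⊤ := by
      refine top_le_iff.1 fun z _ => ?_
      obtain ⟨_, ⟨V, hV, rfl⟩, hzV, hVU⟩ :=
        X.isBasis_affineOpens.exists_subset_of_mem_open (a := π z.1) z.2 U.2
      exact Opens.mem_iSup.2 ⟨⟨⟨V, hV⟩, hVU⟩, hzV⟩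
    rw [← MorphismProperty.isomorphisms.iff,
      IsZariskiLocalAtTarget.iff_of_iSup_eq_top (P := MorphismProperty.isomorphisms Scheme) _ hS]
    rintro ⟨V, hVU⟩
    have hle : π ⁻¹ᵁ V.1 ≤ U' := π.preimage_mono hVU
    rw [(MorphismProperty.isomorphisms Scheme).arrow_mk_iso_iff (morphismRestrictRestrict _ _ _)]
    have himg : U'.ι ''ᵁ (U'.ι ⁻¹ᵁ (π ⁻¹ᵁ V.1)) = π ⁻¹ᵁ V.1 := by
      rw [Scheme.Hom.image_preimage_eq_opensRange_inf, U'.opensRange_ι]
      exact inf_eq_right.2 hle
    rw [himg, MorphismProperty.isomorphisms.iff]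
    haveI : IsAffine (π ⁻¹ᵁ V.1 : g.normalization.Opens).toScheme := V.2.preimage π
    haveI : IsAffine (g.toNormalization ⁻¹ᵁ (π ⁻¹ᵁ V.1) : Y.Opens).toScheme := by
      show IsAffineOpen (g.toNormalization ⁻¹ᵁ (π ⁻¹ᵁ V.1))
      rw [← Scheme.Hom.comp_preimage, Scheme.Hom.toNormalization_fromNormalization]
      exact (V.2.preimage_of_isOpenImmersion U.ι (by rw [U.opensRange_ι]; exact hVU)).preimage f
    have happ : IsIso (g.toNormalization.app (π ⁻¹ᵁ V.1)) := by
      rw [g.toNormalization_app_preimage V]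
      letI := (g.app V.1).hom.toAlgebra
      haveI : IsIso (CommRingCat.ofHom (integralClosure Γ(X, V.1) Γ(Y, g ⁻¹ᵁ V.1)).val.toRingHom) :=
        (ConcreteCategory.isIso_iff_bijective _).2 (hall V)
      refine @IsIso.comp_isIso _ _ _ _ _ _ _ inferInstance (@IsIso.comp_isIso _ _ _ _ _ _ _ this ?_)
      exact Functor.map_isIso _ _
    haveI : IsIso (g.toNormalization ∣_ π ⁻¹ᵁ V.1).appTop := by
      rw [morphismRestrict_appTop]
      have e : π ⁻¹ᵁ V.1 = (π ⁻¹ᵁ V.1).ι ''ᵁ ⊤ := by simp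
      have happ' : ∀ W, W = π ⁻¹ᵁ V.1 → IsIso (g.toNormalization.app W) := fun W hW => hW ▸ happ
      exact @IsIso.comp_isIso _ _ _ _ _ _ _ (happ' _ e.symm) (Functor.map_isIso _ _)
    exact isIso_of_isAffine_of_isIso_appTop _
  haveI : IsIso ((g.toNormalization ⁻¹ᵁ U').ι) := by
    rw [hsrc]; exact inferInstanceAs (IsIso (Scheme.topIso Y).hom)
  have hfac : g.toNormalization = inv (g.toNormalization ⁻¹ᵁ U').ι ≫ (g.toNormalization ∣_ U') ≫ U'.ι := by
    rw [morphismRestrict_ι, IsIso.inv_hom_id_assoc]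
  haveI : IsOpenImmersion g.toNormalization := by rw [hfac]; infer_instance
  refine (IsOpenImmersion.isPullback f g.toNormalization U.ι π
    (g.toNormalization_fromNormalization) ?_).flip
  rw [U.opensRange_ι]
  refine le_antisymm (fun z hz => ?_) ?_
  · refine ⟨inv (g.toNormalization ∣_ U') ⟨z, hz⟩ |>.1, ?_⟩
    have := congrArg (fun k : U'.toScheme ⟶ U'.toScheme => k ⟨z, hz⟩) (IsIso.inv_hom_id (g.toNormalization ∣_ U'))
    simp only [Scheme.Hom.comp_apply] at this
    exact (morphismRestrict_base_coe _ _ _).symm.trans (congrArg Subtype.val this)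
  · rintro _ ⟨z, rfl⟩
    show π (g.toNormalization z) ∈ U
    rw [← Scheme.Hom.comp_apply, Scheme.Hom.toNormalization_fromNormalization]
    exact (f z).2
where
  isIso_of_isAffine_of_isIso_appTop {A B : Scheme.{u}} (k : A ⟶ B) [IsAffine A] [IsAffine B] [IsIso k.appTop] :
      IsIso k := by
    have h := HasAffineProperty.iff_of_isAffine (P := MorphismProperty.isomorphisms Scheme.{u}) (f := k)
    exact h.2 ⟨inferInstance, inferInstance⟩

end Groth.Agent.PurePairDesc
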