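import Groth.Prelude.Def_FEt
import Groth.Agent.FlatSecLib.Glue
/-!
Full faithfulness of restriction to an open with complement of depth two, over a locally Noetherian
scheme (variants of `S19995` and `PurityLib.restrict_fullyFaithful`).
-/

set_option autoImplicit false
set_option linter.style.haveILetI false
universe u
open AlgebraicGeometry CategoryTheory CategoryTheory.Limits

namespace Groth.Agent.PurePairDesc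

theorem existsUnique_lift_opens
    (S G₁ G₂ : Scheme.{u}) [IsLocallyNoetherian S] (f₁ : G₁ ⟶ S) (f₂ : G₂ ⟶ S)
    [AlgebraicGeometry.IsFinite f₁] [AlgebraicGeometry.Flat f₁]
    [AlgebraicGeometry.IsFinite f₂] [AlgebraicGeometry.Flat f₂]
    (U : S.Opens)
    (hU : ∀ s : S, s ∉ U → (2 : ℕ∞) ≤ LocCoh.depth (S.presheaf.stalk s) (S.presheaf.stalk s))
    (φU : ((f₁ ⁻¹ᵁ U : G₁.Opens) : Scheme.{u}) ⟶ ((f₂ ⁻¹ᵁ U : G₂.Opens) : Scheme.{u}))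
    (hφU : φU ≫ (f₂ ⁻¹ᵁ U).ι ≫ f₂ = (f₁ ⁻¹ᵁ U).ι ≫ f₁) :
    ∃! φ : G₁ ⟶ G₂, φ ≫ f₂ = f₁ ∧ (f₁ ⁻¹ᵁ U).ι ≫ φ = φU ≫ (f₂ ⁻¹ᵁ U).ι := by
  classical
  let U₁ : G₁.Opens := f₁ ⁻¹ᵁ U
  let θ : ((U₁ : G₁.Opens) : Scheme.{u}) ⟶ G₂ := φU ≫ (f₂ ⁻¹ᵁ U).ι
  have hθ : θ ≫ f₂ = U₁.ι ≫ f₁ := by simp only [θ, Category.assoc]; exact hφU
  -- uniqueness over an affine open
  have huniq : ∀ V : S.Opens, IsAffineOpen V → ∀ a b : ((f₁ ⁻¹ᵁ V : G₁.Opens) : Scheme.{u}) ⟶ G₂,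
      a ≫ f₂ = (f₁ ⁻¹ᵁ V).ι ≫ f₁ → b ≫ f₂ = (f₁ ⁻¹ᵁ V).ι ≫ f₁ →
      G₁.homOfLE (inf_le_left : f₁ ⁻¹ᵁ V ⊓ U₁ ≤ f₁ ⁻¹ᵁ V) ≫ a =
        G₁.homOfLE (inf_le_left : f₁ ⁻¹ᵁ V ⊓ U₁ ≤ f₁ ⁻¹ᵁ V) ≫ b → a = b := by
    intro V hV a b ha hb hab
    haveI := Groth.Agent.FlatSecLib.isIso_homOfLE_appTop f₁ U hU hV
    haveI : IsAffine ((f₂ ⁻¹ᵁ V : G₂.Opens) : Scheme.{u}) := hV.preimage f₂
    have hr : ∀ c : ((f₁ ⁻¹ᵁ V : G₁.Opens) : Scheme.{u}) ⟶ G₂, c ≫ f₂ = (f₁ ⁻¹ᵁ V).ι ≫ f₁ →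
        Set.range c ⊆ Set.range (f₂ ⁻¹ᵁ V).ι := by
      rintro c hc _ ⟨z, rfl⟩
      rw [Scheme.Opens.range_ι]
      have := congrArg (fun g : ((f₁ ⁻¹ᵁ V : G₁.Opens) : Scheme.{u}) ⟶ S => g z) hc
      simp only [Scheme.Hom.comp_apply] at this
      show f₂ (c z) ∈ V
      rw [this]; exact z.2
    have := Groth.Agent.FlatSecLib.hom_ext_of_isIso_appTop (X := ((f₂ ⁻¹ᵁ V : G₂.Opens) : Scheme.{u}))
      (G₁.homOfLE (inf_le_left : f₁ ⁻¹ᵁ V ⊓ U₁ ≤ f₁ ⁻¹ᵁ V))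
      (a := IsOpenImmersion.lift (f₂ ⁻¹ᵁ V).ι a (hr a ha)) (b := IsOpenImmersion.lift (f₂ ⁻¹ᵁ V).ι b (hr b hb))
      (by rw [← cancel_mono (f₂ ⁻¹ᵁ V).ι, Category.assoc, Category.assoc, IsOpenImmersion.lift_fac,
        IsOpenImmersion.lift_fac]; exact hab)
    rw [← IsOpenImmersion.lift_fac (f₂ ⁻¹ᵁ V).ι a (hr a ha), this, IsOpenImmersion.lift_fac]
  -- existence over an affine open
  have hex : ∀ V : S.affineOpens, ∃ g : ((f₁ ⁻¹ᵁ V.1 : G₁.Opens) : Scheme.{u}) ⟶ G₂,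
      g ≫ f₂ = (f₁ ⁻¹ᵁ V.1).ι ≫ f₁ ∧
        G₁.homOfLE inf_le_left ≫ g = G₁.homOfLE (inf_le_right : f₁ ⁻¹ᵁ V.1 ⊓ U₁ ≤ U₁) ≫ θ := by
    intro V
    haveI := Groth.Agent.FlatSecLib.isIso_homOfLE_appTop f₁ U hU V.2
    haveI : IsAffine ((f₂ ⁻¹ᵁ V.1 : G₂.Opens) : Scheme.{u}) := V.2.preimage f₂
    have hrange : Set.range (G₁.homOfLE (inf_le_right : f₁ ⁻¹ᵁ V.1 ⊓ U₁ ≤ U₁) ≫ θ) ⊆ Set.range (f₂ ⁻¹ᵁ V.1).ι := by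
      rintro _ ⟨z, rfl⟩
      rw [Scheme.Opens.range_ι]
      have := congrArg (fun g : ((U₁ : G₁.Opens) : Scheme.{u}) ⟶ S => g (G₁.homOfLE inf_le_right z)) hθ
      simp only [Scheme.Hom.comp_apply] at this
      show f₂ ((G₁.homOfLE inf_le_right ≫ θ) z) ∈ V.1
      rw [Scheme.Hom.comp_apply, this]
      have h2 := congrArg (fun g : ((f₁ ⁻¹ᵁ V.1 ⊓ U₁ : G₁.Opens) : Scheme.{u}) ⟶ G₁ => g z)
        (G₁.homOfLE_ι (inf_le_right : f₁ ⁻¹ᵁ V.1 ⊓ U₁ ≤ U₁))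
      simp only [Scheme.Hom.comp_apply] at h2
      rw [h2]; exact z.2.1
    obtain ⟨g, hg⟩ := Groth.Agent.FlatSecLib.exists_extend (X := ((f₂ ⁻¹ᵁ V.1 : G₂.Opens) : Scheme.{u}))
      (G₁.homOfLE (inf_le_left : f₁ ⁻¹ᵁ V.1 ⊓ U₁ ≤ f₁ ⁻¹ᵁ V.1)) (IsOpenImmersion.lift _ _ hrange)
    refine ⟨g ≫ (f₂ ⁻¹ᵁ V.1).ι, ?_, by rw [reassoc_of% hg, IsOpenImmersion.lift_fac]⟩
    haveI : IsAffine (V.1 : Scheme.{u}) := V.2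
    have key := Groth.Agent.FlatSecLib.hom_ext_of_isIso_appTop (X := (V.1 : Scheme.{u}))
      (G₁.homOfLE (inf_le_left : f₁ ⁻¹ᵁ V.1 ⊓ U₁ ≤ f₁ ⁻¹ᵁ V.1))
      (a := g ≫ f₂ ∣_ V.1) (b := f₁ ∣_ V.1) (by
        rw [← cancel_mono V.1.ι]
        simp only [Category.assoc, morphismRestrict_ι]
        rw [reassoc_of% hg, IsOpenImmersion.lift_fac_assoc, Category.assoc, hθ, ← Category.assoc,
          Scheme.homOfLE_ι, ← Category.assoc, Scheme.homOfLE_ι])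
    rw [Category.assoc, ← morphismRestrict_ι, reassoc_of% key, morphismRestrict_ι]
  choose g hg hgU using hex
  let 𝒰 : G₁.OpenCover := G₁.openCoverOfIsOpenCover (fun V : S.affineOpens => f₁ ⁻¹ᵁ V.1)
    (.mk (by rw [← Scheme.Hom.preimage_iSup, AlgebraicGeometry.iSup_affineOpens_eq_top S, Scheme.Hom.preimage_top]))
  have hcompat : ∀ V W : S.affineOpens,
      Limits.pullback.fst (f₁ ⁻¹ᵁ V.1).ι (f₁ ⁻¹ᵁ W.1).ι ≫ g V = Limits.pullback.snd (f₁ ⁻¹ᵁ V.1).ι (f₁ ⁻¹ᵁ W.1).ι ≫ g W := by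
    intro V W
    rw [← cancel_epi (isPullback_opens_inf (f₁ ⁻¹ᵁ V.1) (f₁ ⁻¹ᵁ W.1)).isoPullback.hom]
    rw [IsPullback.isoPullback_hom_fst_assoc, IsPullback.isoPullback_hom_snd_assoc]
    let O := f₁ ⁻¹ᵁ V.1 ⊓ f₁ ⁻¹ᵁ W.1
    refine ((O : Scheme.{u}).openCoverOfIsOpenCover
      (fun X : {X : S.affineOpens // X.1 ≤ V.1 ⊓ W.1} => O.ι ⁻¹ᵁ (f₁ ⁻¹ᵁ X.1.1)) (.mk ?_)).hom_ext _ _ fun X => ?_
    · refine eq_top_iff.2 fun z _ => ?_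
      obtain ⟨X, hX, hzX, hXle⟩ := (S.isBasis_affineOpens |>
        TopologicalSpace.Opens.isBasis_iff_nbhd.1) (show f₁ (O.ι z) ∈ V.1 ⊓ W.1 from ⟨z.2.1, z.2.2⟩)
      exact TopologicalSpace.Opens.mem_iSup.2 ⟨⟨⟨X, hX⟩, hXle⟩, hzX⟩
    · obtain ⟨X, hX⟩ := X
      have hXV : f₁ ⁻¹ᵁ X.1 ≤ f₁ ⁻¹ᵁ V.1 := fun z hz => (hX hz).1
      have hXW : f₁ ⁻¹ᵁ X.1 ≤ f₁ ⁻¹ᵁ W.1 := fun z hz => (hX hz).2
      have hXO : f₁ ⁻¹ᵁ X.1 ≤ O := le_inf hXV hXW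
      have he : G₁.homOfLE hXV ≫ g V = G₁.homOfLE hXW ≫ g W := by
        refine huniq X.1 X.2 _ _ (by rw [Category.assoc, hg, ← Category.assoc, Scheme.homOfLE_ι])
          (by rw [Category.assoc, hg, ← Category.assoc, Scheme.homOfLE_ι]) ?_
        rw [Scheme.homOfLE_homOfLE_assoc, Scheme.homOfLE_homOfLE_assoc,
          ← G₁.homOfLE_homOfLE_assoc (V := f₁ ⁻¹ᵁ V.1 ⊓ U₁) (inf_le_inf_right U₁ hXV) inf_le_left (g V), hgU,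
          ← G₁.homOfLE_homOfLE_assoc (V := f₁ ⁻¹ᵁ W.1 ⊓ U₁) (inf_le_inf_right U₁ hXW) inf_le_left (g W), hgU,
          Scheme.homOfLE_homOfLE_assoc, Scheme.homOfLE_homOfLE_assoc]
      let k : ((O.ι ⁻¹ᵁ (f₁ ⁻¹ᵁ X.1) : (O : Scheme.{u}).Opens) : Scheme.{u}) ⟶
          ((f₁ ⁻¹ᵁ X.1 : G₁.Opens) : Scheme.{u}) := O.ι ∣_ (f₁ ⁻¹ᵁ X.1)
      have hk : k ≫ G₁.homOfLE hXO = (O.ι ⁻¹ᵁ (f₁ ⁻¹ᵁ X.1)).ι := by
        rw [← cancel_mono O.ι, Category.assoc, Scheme.homOfLE_ι]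
        exact morphismRestrict_ι O.ι (f₁ ⁻¹ᵁ X.1)
      show (O.ι ⁻¹ᵁ (f₁ ⁻¹ᵁ X.1)).ι ≫ _ = (O.ι ⁻¹ᵁ (f₁ ⁻¹ᵁ X.1)).ι ≫ _
      rw [← hk, Category.assoc, Category.assoc, Scheme.homOfLE_homOfLE_assoc, Scheme.homOfLE_homOfLE_assoc, he]
  let φ : G₁ ⟶ G₂ := 𝒰.glueMorphisms g hcompat
  have hφV : ∀ V : S.affineOpens, (f₁ ⁻¹ᵁ V.1).ι ≫ φ = g V := fun V => 𝒰.ι_glueMorphisms g hcompat V
  have hU1 : U₁.ι ≫ φ = θ := by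
    refine ((U₁ : Scheme.{u}).openCoverOfIsOpenCover (fun V : S.affineOpens => U₁.ι ⁻¹ᵁ (f₁ ⁻¹ᵁ V.1))
      (.mk (by rw [← Scheme.Hom.preimage_iSup, ← Scheme.Hom.preimage_iSup,
        AlgebraicGeometry.iSup_affineOpens_eq_top S, Scheme.Hom.preimage_top, Scheme.Hom.preimage_top]))).hom_ext _ _
      fun V => ?_
    show (U₁.ι ⁻¹ᵁ (f₁ ⁻¹ᵁ V.1)).ι ≫ U₁.ι ≫ φ = (U₁.ι ⁻¹ᵁ (f₁ ⁻¹ᵁ V.1)).ι ≫ θ
    let W := U₁.ι ⁻¹ᵁ (f₁ ⁻¹ᵁ V.1)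
    have hr : Set.range (W.ι ≫ U₁.ι) ⊆ Set.range (f₁ ⁻¹ᵁ V.1 ⊓ U₁ : G₁.Opens).ι := by
      rintro _ ⟨z, rfl⟩
      rw [Scheme.Opens.range_ι]
      exact ⟨z.2, z.1.2⟩
    let k := IsOpenImmersion.lift (f₁ ⁻¹ᵁ V.1 ⊓ U₁ : G₁.Opens).ι (W.ι ≫ U₁.ι) hr
    have hk : k ≫ G₁.homOfLE inf_le_right = W.ι := by
      rw [← cancel_mono U₁.ι, Category.assoc, Scheme.homOfLE_ι, IsOpenImmersion.lift_fac]
    have h2 : (f₁ ⁻¹ᵁ V.1 ⊓ U₁ : G₁.Opens).ι ≫ φ = G₁.homOfLE inf_le_right ≫ θ := by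
      rw [← G₁.homOfLE_ι (inf_le_left : f₁ ⁻¹ᵁ V.1 ⊓ U₁ ≤ f₁ ⁻¹ᵁ V.1), Category.assoc, hφV, hgU]
    calc W.ι ≫ U₁.ι ≫ φ = k ≫ (f₁ ⁻¹ᵁ V.1 ⊓ U₁ : G₁.Opens).ι ≫ φ :=
          ((IsOpenImmersion.lift_fac_assoc _ _ hr φ).trans (Category.assoc _ _ _)).symm
      _ = k ≫ G₁.homOfLE inf_le_right ≫ θ := by rw [h2]
      _ = W.ι ≫ θ := by rw [reassoc_of% hk]
  refine ⟨φ, ⟨𝒰.hom_ext _ _ fun V => ?_, ?_⟩, fun ψ hψ => ?_⟩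
  · show (f₁ ⁻¹ᵁ V.1).ι ≫ φ ≫ f₂ = (f₁ ⁻¹ᵁ V.1).ι ≫ f₁
    rw [reassoc_of% hφV, hg]
  · exact hU1
  · refine 𝒰.hom_ext _ _ fun V => ?_
    show (f₁ ⁻¹ᵁ V.1).ι ≫ ψ = (f₁ ⁻¹ᵁ V.1).ι ≫ φ
    refine huniq V.1 V.2 _ _ (by rw [Category.assoc, hψ.1]) (by rw [hφV]; exact hg V) ?_
    rw [← Category.assoc, ← Category.assoc, Scheme.homOfLE_ι,
      ← G₁.homOfLE_ι (inf_le_right : f₁ ⁻¹ᵁ V.1 ⊓ U₁ ≤ U₁), Category.assoc, Category.assoc, hψ.2, hU1]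

variable {S : Scheme.{u}} [IsLocallyNoetherian S] (U : S.Opens)

theorem restrict_map_left_fst {A B : FEt.Cat S} (h : A ⟶ B) :
    ((FEt.restrict U.ι).map h).left ≫ pullback.fst B.hom U.ι = pullback.fst A.hom U.ι ≫ h.left :=
  pullback.lift_fst _ _ _

theorem existsUnique_lift
    (hU : ∀ s : S, s ∉ U → (2 : ℕ∞) ≤ LocCoh.depth (S.presheaf.stalk s) (S.presheaf.stalk s))
    {X Y : Scheme.{u}} (a : X ⟶ S) (b : Y ⟶ S) [IsFinite a] [Flat a] [IsFinite b] [Flat b]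
    (ψ : pullback a U.ι ⟶ pullback b U.ι) (hw : ψ ≫ pullback.snd b U.ι = pullback.snd a U.ι) :
    ∃! φ : X ⟶ Y, φ ≫ b = a ∧ pullback.fst a U.ι ≫ φ = ψ ≫ pullback.fst b U.ι := by
  let eA := pullbackRestrictIsoRestrict a U
  let eB := pullbackRestrictIsoRestrict b U
  have hA : eA.hom ≫ (a ⁻¹ᵁ U).ι = pullback.fst a U.ι := pullbackRestrictIsoRestrict_hom_ι _ _
  have hB : eB.hom ≫ (b ⁻¹ᵁ U).ι = pullback.fst b U.ι := pullbackRestrictIsoRestrict_hom_ι _ _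
  have hφU : (eA.inv ≫ ψ ≫ eB.hom) ≫ (b ⁻¹ᵁ U).ι ≫ b = (a ⁻¹ᵁ U).ι ≫ a := by
    rw [← cancel_epi eA.hom]
    simp only [Category.assoc, Iso.hom_inv_id_assoc]
    rw [← Category.assoc eB.hom, hB, ← Category.assoc eA.hom, hA, pullback.condition, pullback.condition,
      ← Category.assoc, hw]
  obtain ⟨φ, ⟨h1, h2⟩, huniq⟩ :=
    existsUnique_lift_opens S X Y a b U hU (eA.inv ≫ ψ ≫ eB.hom) hφU
  refine ⟨φ, ⟨h1, ?_⟩, fun φ' hφ' => huniq φ' ⟨hφ'.1, ?_⟩⟩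
  · rw [← hA, Category.assoc, h2]
    simp only [Category.assoc, Iso.hom_inv_id_assoc]
    rw [hB]
  · rw [← cancel_epi eA.hom, ← Category.assoc, hA, hφ'.2]
    simp only [Category.assoc, Iso.hom_inv_id_assoc]
    rw [hB]

theorem restrict_fullyFaithful
    (hU : ∀ s : S, s ∉ U → (2 : ℕ∞) ≤ LocCoh.depth (S.presheaf.stalk s) (S.presheaf.stalk s)) :
    (FEt.restrict U.ι).Full ∧ (FEt.restrict U.ι).Faithful := by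
  have key : ∀ (A B : FEt.Cat S) (ψ : (FEt.restrict U.ι).obj A ⟶ (FEt.restrict U.ι).obj B),
      ∃! φ : A.left ⟶ B.left, φ ≫ B.hom = A.hom ∧
        pullback.fst A.hom U.ι ≫ φ = ψ.left ≫ pullback.fst B.hom U.ι := by
    intro A B ψ
    haveI : IsFinite A.hom := A.prop.1
    haveI : Etale A.hom := A.prop.2
    haveI : IsFinite B.hom := B.prop.1
    haveI : Etale B.hom := B.prop.2
    exact existsUnique_lift U hU A.hom B.hom ψ.left (CategoryTheory.Over.w ψ.hom)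
  constructor
  · refine ⟨fun {A B} ψ => ?_⟩
    obtain ⟨φ, ⟨h1, h2⟩, -⟩ := key A B ψ
    refine ⟨MorphismProperty.Over.homMk φ h1 trivial, ?_⟩
    refine MorphismProperty.Over.Hom.ext ?_
    refine pullback.hom_ext ?_ ?_
    · exact (restrict_map_left_fst U _).trans h2
    · exact (CategoryTheory.Over.w ((FEt.restrict U.ι).map (MorphismProperty.Over.homMk φ h1 trivial)).hom).trans
        (CategoryTheory.Over.w ψ.hom).symm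
  · refine ⟨fun {A B} h h' he => ?_⟩
    obtain ⟨φ, -, huniq⟩ := key A B ((FEt.restrict U.ι).map h)
    refine MorphismProperty.Over.Hom.ext ((huniq h.left ⟨CategoryTheory.Over.w h.hom, (restrict_map_left_fst U h).symm⟩).trans
      (huniq h'.left ⟨CategoryTheory.Over.w h'.hom, ?_⟩).symm)
    rw [he]
    exact (restrict_map_left_fst U h').symm

end Groth.Agent.PurePairDesc
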