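import Groth.Agent.PurePairDesc.Alg
import Groth.Agent.PurePairDesc.Extend
import Groth.Agent.PurePairDesc.Full
import Groth.Agent.PropPi1.Surj
import Groth.Agent.S0289
import Groth.Agent.S0291
import Groth.Prelude.Def_SGA2
/-!
Faithfully flat descent of purity of pairs.
-/

set_option autoImplicit false
set_option backward.isDefEq.respectTransparency false

universe u

open CategoryTheory CategoryTheory.Limits AlgebraicGeometry TopologicalSpace

namespace Groth.Agent.PurePairDesc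

theorem opensRange_of_isPullback {P X Y S : Scheme.{u}} {m : P ⟶ X} {j : P ⟶ Y} {a : X ⟶ S} {b : Y ⟶ S}
    [IsOpenImmersion a] [IsOpenImmersion j] (h : IsPullback m j a b) : j.opensRange = b ⁻¹ᵁ a.opensRange := by
  refine Opens.ext ?_
  show Set.range j.base = _
  rw [show j = h.isoPullback.hom ≫ pullback.snd a b from h.isoPullback_hom_snd.symm, Scheme.Hom.comp_base,
    TopCat.coe_comp, Set.range_comp, (h.isoPullback.hom.surjective).range_eq, Set.image_univ,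
    IsOpenImmersion.range_pullbackSnd]

theorem isEquivalence_restrict_of_isIso {X Y : Scheme.{u}} (e : X ⟶ Y) [IsIso e] :
    (FEt.restrict e).IsEquivalence :=
  S0289.result e

/-- Restriction along an open immersion is an equivalence iff it is one along its image. -/
theorem isEquivalence_restrict_iff {X Y : Scheme.{u}} (j : Y ⟶ X) [IsOpenImmersion j] (U : X.Opens)
    (hU : j.opensRange = U) : (FEt.restrict j).IsEquivalence ↔ (FEt.restrict U.ι).IsEquivalence := by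
  let e := IsOpenImmersion.isoOfRangeEq j U.ι (by simpa using congr($(hU).1))
  have he : e.hom ≫ U.ι = j := IsOpenImmersion.isoOfRangeEq_hom_fac _ _ _
  have hi := PropPi1.restrictCompIso e.hom U.ι
  rw [he] at hi
  haveI := isEquivalence_restrict_of_isIso e.hom
  constructor
  · intro h
    haveI : (FEt.restrict U.ι ⋙ FEt.restrict e.hom).IsEquivalence := Functor.isEquivalence_of_iso hi
    exact Functor.isEquivalence_of_comp_right (FEt.restrict U.ι) (FEt.restrict e.hom)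
  · intro h
    exact Functor.isEquivalence_of_iso hi.symm

theorem depth_transfer {S : Scheme.{u}} [IsLocallyNoetherian S] (U : S.Opens)
    (hU : ∀ s : S, s ∉ U → (2 : ℕ∞) ≤ LocCoh.depth (S.presheaf.stalk s) (S.presheaf.stalk s))
    (W : S.Opens) :
    ∀ w : W.toScheme, w ∉ W.ι ⁻¹ᵁ U →
      (2 : ℕ∞) ≤ LocCoh.depth (W.toScheme.presheaf.stalk w) (W.toScheme.presheaf.stalk w) := by
  intro w hw
  rw [← Groth.Agent.S0291.depth_of_ringEquiv (W.stalkIso w).commRingCatIsoToRingEquiv]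
  exact hU _ hw

variable {S S₁ : Scheme.{u}} [IsLocallyNoetherian S]

/-- Descent of essential surjectivity. -/
theorem essSurj_of_descent (U : S.Opens)
    (hU : ∀ s : S, s ∉ U → (2 : ℕ∞) ≤ LocCoh.depth (S.presheaf.stalk s) (S.presheaf.stalk s))
    (f : S₁ ⟶ S) [Flat f] [Surjective f] [QuasiCompact f] [(FEt.restrict (f ⁻¹ᵁ U).ι).EssSurj] :
    (FEt.restrict U.ι).EssSurj := by
  refine ⟨fun E => ?_⟩
  haveI : IsFinite E.hom := E.prop.1
  haveI : Etale E.hom := E.prop.2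
  -- the extension over `S₁`
  let E₁ := (FEt.restrict (f ∣_ U)).obj E
  let Z₁ := (FEt.restrict (f ⁻¹ᵁ U).ι).objPreimage E₁
  let φ := (FEt.restrict (f ⁻¹ᵁ U).ι).objObjPreimageIso E₁
  haveI : IsFinite Z₁.hom := Z₁.prop.1
  haveI : Etale Z₁.hom := Z₁.prop.2
  haveI : IsIso φ.inv.left :=
    inferInstanceAs (IsIso ((MorphismProperty.Over.forget _ _ _ ⋙ Over.forget _).map φ.inv))
  let j₁ : E₁.left ⟶ Z₁.left := φ.inv.left ≫ pullback.fst Z₁.hom (f ⁻¹ᵁ U).ι
  have hj₁w : j₁ ≫ Z₁.hom = pullback.snd E.hom (f ∣_ U) ≫ (f ⁻¹ᵁ U).ι := by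
    have h : φ.inv.left ≫ pullback.snd Z₁.hom (f ⁻¹ᵁ U).ι = pullback.snd E.hom (f ∣_ U) :=
      CategoryTheory.Over.w φ.inv.hom
    simp only [j₁, Category.assoc]
    rw [pullback.condition, ← Category.assoc, h]
  haveI : IsOpenImmersion j₁ :=
    inferInstanceAs (IsOpenImmersion (φ.inv.left ≫ pullback.fst Z₁.hom (f ⁻¹ᵁ U).ι))
  have hj₁r : j₁.opensRange = Z₁.hom ⁻¹ᵁ (f ⁻¹ᵁ U) := by
    show (φ.inv.left ≫ pullback.fst Z₁.hom (f ⁻¹ᵁ U).ι).opensRange = _
    simp only [Scheme.Hom.opensRange_comp_of_isIso, Scheme.Hom.opensRange_pullbackFst,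
      Scheme.Opens.opensRange_ι]
  let g : E.left ⟶ S := E.hom ≫ U.ι
  have s2 : IsPullback (pullback.fst E.hom (f ∣_ U)) (j₁ ≫ Z₁.hom) g f := by
    rw [hj₁w]
    exact (IsPullback.of_hasPullback E.hom (f ∣_ U)).paste_vert (isPullback_morphismRestrict f U)
  suffices hfe : ∀ W : S.Opens, IsAffineOpen W → (g.app W).hom.Finite ∧ (g.app W).hom.Etale by
    obtain ⟨Z, π, j, h1, h2, hpb⟩ := exists_extension_of_app U E.hom hfe
    exact ⟨MorphismProperty.Over.mk ⊤ π ⟨h1, h2⟩,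
      ⟨MorphismProperty.Over.isoMk hpb.isoPullback.symm (by
        simp only [Iso.symm_hom]
        exact hpb.isoPullback_inv_snd)⟩⟩
  intro W hW
  haveI : IsAffine W.toScheme := hW
  haveI : QuasiCompact g := inferInstanceAs (QuasiCompact (E.hom ≫ U.ι))
  haveI : QuasiSeparated g := inferInstanceAs (QuasiSeparated (E.hom ≫ U.ι))
  -- a faithfully flat affine chart over `W`
  haveI : CompactSpace (f ⁻¹ᵁ W : S₁.Opens) := isCompact_iff_compactSpace.mp (f.isCompact_preimage hW.isCompact)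
  let 𝒰 := ((f ⁻¹ᵁ W : S₁.Opens) : Scheme.{u}).affineCover.finiteSubcover
  let τ' : ∐ 𝒰.X ⟶ (f ⁻¹ᵁ W : S₁.Opens) := Sigma.desc 𝒰.f
  haveI : Surjective τ' := inferInstanceAs (Surjective (Sigma.desc 𝒰.f))
  haveI : Flat τ' := inferInstanceAs (Flat (Sigma.desc 𝒰.f))
  let τ : ∐ 𝒰.X ⟶ S₁ := τ' ≫ (f ⁻¹ᵁ W).ι
  let t : ∐ 𝒰.X ⟶ W.toScheme := τ' ≫ f ∣_ W
  haveI : Flat (f ∣_ W) := IsZariskiLocalAtTarget.restrict ‹Flat f› W
  haveI : Surjective (f ∣_ W) := IsZariskiLocalAtTarget.restrict ‹Surjective f› W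
  haveI : Flat t := inferInstanceAs (Flat (τ' ≫ f ∣_ W))
  haveI : Surjective t := inferInstanceAs (Surjective (τ' ≫ f ∣_ W))
  have htτ : t ≫ W.ι = τ ≫ f := by
    simp only [t, τ, Category.assoc, morphismRestrict_ι]
  haveI : QuasiCompact (g ∣_ W) := IsZariskiLocalAtTarget.restrict ‹_› W
  haveI : QuasiSeparated (g ∣_ W) := IsZariskiLocalAtTarget.restrict ‹_› W
  have s1 : IsPullback (pullback.fst (g ∣_ W) t ≫ (g ⁻¹ᵁ W).ι) (pullback.snd (g ∣_ W) t) g (τ ≫ f) := by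
    rw [← htτ]
    exact (IsPullback.of_hasPullback (g ∣_ W) t).paste_horiz (isPullback_morphismRestrict g W).flip
  let m := s2.lift (pullback.fst (g ∣_ W) t ≫ (g ⁻¹ᵁ W).ι) (pullback.snd (g ∣_ W) t ≫ τ)
    (by rw [Category.assoc _ τ, s1.w])
  have hm : IsPullback m (pullback.snd (g ∣_ W) t) (j₁ ≫ Z₁.hom) τ := by
    refine IsPullback.of_right ?_ (s2.lift_snd _ _ _) s2
    rw [s2.lift_fst]
    exact s1
  let jW : pullback (g ∣_ W) t ⟶ pullback Z₁.hom τ :=
    pullback.lift (m ≫ j₁) (pullback.snd (g ∣_ W) t) (by rw [Category.assoc, hm.w])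
  have hjW : IsPullback m jW j₁ (pullback.fst Z₁.hom τ) := by
    refine IsPullback.of_bot ?_ (pullback.lift_fst _ _ _).symm (IsPullback.of_hasPullback Z₁.hom τ)
    rw [pullback.lift_snd]
    exact hm
  haveI : IsOpenImmersion jW := MorphismProperty.of_isPullback hjW ‹_›
  have hrange : jW.opensRange = (pullback.snd Z₁.hom τ ≫ t) ⁻¹ᵁ (W.ι ⁻¹ᵁ U) := by
    rw [opensRange_of_isPullback hjW, hj₁r]
    simp only [← Scheme.Hom.comp_preimage, Category.assoc, htτ]
    rw [← Category.assoc, pullback.condition, Category.assoc]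
  obtain ⟨k1, k2⟩ := finite_etale_appTop_of_chart (W.ι ⁻¹ᵁ U) (depth_transfer U hU W) (g ∣_ W) t
    (pullback.snd Z₁.hom τ) jW (pullback.lift_snd _ _ _) hrange
  show (g.app W).hom.Finite ∧ (g.app W).hom.Etale
  have e : W.ι ''ᵁ ⊤ = W := W.ι_image_top
  rw [morphismRestrict_appTop] at k1 k2
  haveI he : IsIso (E.left.presheaf.map (eqToHom (image_morphismRestrict_preimage g W ⊤)).op) :=
    inferInstance
  have key : ∀ (W' : S.Opens), W' = W → (g.app W').hom.Finite → (g.app W').hom.Etale →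
      (g.app W).hom.Finite ∧ (g.app W).hom.Etale := by
    rintro W' rfl hF hE; exact ⟨hF, hE⟩
  exact key _ e ((RingHom.finite_respectsIso.cancel_right_isIso _ _).mp k1)
    ((RingHom.Etale.respectsIso.cancel_right_isIso _ _).mp k2)

theorem isPurePair_of_faithfullyFlat {X X₁ : Scheme.{u}} [IsLocallyNoetherian X] (U : X.Opens)
    (hU : ∀ x : X, x ∉ U → (2 : ℕ∞) ≤ LocCoh.depth (X.presheaf.stalk x) (X.presheaf.stalk x))
    (f : X₁ ⟶ X) [Flat f] [Surjective f] [QuasiCompact f] (h : SGA2.IsPurePair X₁ (f ⁻¹ᵁ U)) :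
    SGA2.IsPurePair X U := by
  intro V
  rw [isEquivalence_restrict_iff (X.homOfLE (inf_le_left : V ⊓ U ≤ V)) (V.ι ⁻¹ᵁ U) (by
    rw [Scheme.opensRange_homOfLE]
    ext x
    exact ⟨fun hx => hx.2, fun hx => ⟨x.2, hx⟩⟩)]
  haveI : Flat (f ∣_ V) := IsZariskiLocalAtTarget.restrict ‹Flat f› V
  haveI : Surjective (f ∣_ V) := IsZariskiLocalAtTarget.restrict ‹Surjective f› V
  haveI : QuasiCompact (f ∣_ V) := IsZariskiLocalAtTarget.restrict ‹QuasiCompact f› V
  haveI : (FEt.restrict ((f ∣_ V) ⁻¹ᵁ (V.ι ⁻¹ᵁ U)).ι).IsEquivalence := by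
    rw [← Scheme.Hom.comp_preimage, morphismRestrict_ι, Scheme.Hom.comp_preimage]
    refine (isEquivalence_restrict_iff (X₁.homOfLE (inf_le_left : f ⁻¹ᵁ V ⊓ f ⁻¹ᵁ U ≤ f ⁻¹ᵁ V))
      ((f ⁻¹ᵁ V).ι ⁻¹ᵁ (f ⁻¹ᵁ U)) ?_).mp (h (f ⁻¹ᵁ V))
    rw [Scheme.opensRange_homOfLE]
    ext x
    exact ⟨fun hx => hx.2, fun hx => ⟨x.2, hx⟩⟩
  haveI := essSurj_of_descent (V.ι ⁻¹ᵁ U) (depth_transfer U hU V) (f ∣_ V)
  obtain ⟨h1, h2⟩ := restrict_fullyFaithful (V.ι ⁻¹ᵁ U) (depth_transfer U hU V)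
  exact Functor.IsEquivalence.mk

end Groth.Agent.PurePairDesc
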