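import Groth.Agent.FlatSecLib.Glue
import Groth.Prelude.Def_FEt
import Mathlib.RingTheory.Etale.Descent
import Mathlib.RingTheory.Finiteness.Descent
/-!
Finiteness and étaleness of the sections of a cover of an open with complement of depth two,
by descent along a faithfully flat affine chart.
-/

set_option autoImplicit false
set_option backward.isDefEq.respectTransparency false

universe u

open CategoryTheory CategoryTheory.Limits AlgebraicGeometry TopologicalSpace

namespace Groth.Agent.PurePairDesc

theorem finite_etale_of_isPushout {R R' B C : CommRingCat.{u}} {t : R ⟶ R'} {g : R ⟶ B} {a : R' ⟶ C}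
    {b : B ⟶ C} (h : IsPushout t g a b) (ht : t.hom.FaithfullyFlat) (h1 : a.hom.Finite) (h2 : a.hom.Etale) :
    g.hom.Finite ∧ g.hom.Etale := by
  letI : Algebra R R' := t.hom.toAlgebra
  letI : Algebra R B := g.hom.toAlgebra
  haveI : Module.FaithfullyFlat R R' := ht
  let P := CommRingCat.isPushout_tensorProduct R R' B
  let e := (h.isoPushout ≪≫ P.isoPushout.symm)
  have he : a ≫ e.hom = CommRingCat.ofHom Algebra.TensorProduct.includeLeftRingHom := by
    simp [e, P]
  have hf1 : (algebraMap R' (TensorProduct R R' B)).Finite := by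
    have : (CommRingCat.ofHom (Algebra.TensorProduct.includeLeftRingHom (R := R) (A := R') (B := B))).hom =
        e.hom.hom.comp a.hom := by rw [← he]; rfl
    show (CommRingCat.ofHom (Algebra.TensorProduct.includeLeftRingHom (R := R) (A := R') (B := B))).hom.Finite
    rw [this]
    exact RingHom.Finite.comp (RingHom.Finite.of_surjective _
      (ConcreteCategory.bijective_of_isIso e.hom).surjective) h1
  have hf2 : (algebraMap R' (TensorProduct R R' B)).Etale := by
    have : (CommRingCat.ofHom (Algebra.TensorProduct.includeLeftRingHom (R := R) (A := R') (B := B))).hom =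
        e.hom.hom.comp a.hom := by rw [← he]; rfl
    show (CommRingCat.ofHom (Algebra.TensorProduct.includeLeftRingHom (R := R) (A := R') (B := B))).hom.Etale
    rw [this]
    exact RingHom.Etale.respectsIso.left _ e.commRingCatIsoToRingEquiv h2
  rw [RingHom.finite_algebraMap] at hf1
  rw [RingHom.etale_algebraMap] at hf2
  exact ⟨show Module.Finite R B from Module.Finite.of_finite_tensorProduct_of_faithfullyFlat R',
    show Algebra.Etale R B from Algebra.Etale.of_etale_tensorProduct_of_faithfullyFlat (T := R')⟩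

/-- If the pullback of a cover of `U` along a faithfully flat affine chart extends to a finite étale
cover, then its ring of sections is finite étale. -/
theorem finite_etale_appTop_of_chart {S T E Z : Scheme.{u}} [IsAffine S] [IsAffine T] [IsLocallyNoetherian S]
    (U : S.Opens) (hU : ∀ s : S, s ∉ U → (2 : ℕ∞) ≤ LocCoh.depth (S.presheaf.stalk s) (S.presheaf.stalk s))
    (g : E ⟶ S) [QuasiCompact g] [QuasiSeparated g] (t : T ⟶ S) [Flat t] [Surjective t]
    (z : Z ⟶ T) [IsFinite z] [Etale z]
    (j : pullback g t ⟶ Z) [IsOpenImmersion j] (hj : j ≫ z = pullback.snd g t)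
    (hrange : j.opensRange = (z ≫ t) ⁻¹ᵁ U) :
    g.appTop.hom.Finite ∧ g.appTop.hom.Etale := by
  haveI : IsAffine Z := isAffine_of_isAffineHom z
  -- sections on `Z` restrict bijectively to the part over `U`
  haveI hjiso : IsIso j.appTop := by
    haveI : IsIso (Z.homOfLE (inf_le_left : (z ≫ t) ⁻¹ᵁ ⊤ ⊓ (z ≫ t) ⁻¹ᵁ U ≤ (z ≫ t) ⁻¹ᵁ ⊤)).appTop :=
      FlatSecLib.isIso_homOfLE_appTop (z ≫ t) U hU (isAffineOpen_top S)
    have hr : j.opensRange = ((z ≫ t) ⁻¹ᵁ ⊤ ⊓ (z ≫ t) ⁻¹ᵁ U : Z.Opens).ι.opensRange := by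
      rw [Scheme.Opens.opensRange_ι, hrange]
      simp
    let e := IsOpenImmersion.isoOfRangeEq j ((z ≫ t) ⁻¹ᵁ ⊤ ⊓ (z ≫ t) ⁻¹ᵁ U : Z.Opens).ι
      (by simpa using congr($(hr).1))
    have hfac : j = e.hom ≫ Z.homOfLE (inf_le_left : (z ≫ t) ⁻¹ᵁ ⊤ ⊓ (z ≫ t) ⁻¹ᵁ U ≤ (z ≫ t) ⁻¹ᵁ ⊤) ≫
        ((z ≫ t) ⁻¹ᵁ ⊤).ι := by
      rw [Scheme.homOfLE_ι, IsOpenImmersion.isoOfRangeEq_hom_fac]
    haveI : IsIso ((z ≫ t) ⁻¹ᵁ ⊤).ι := inferInstanceAs (IsIso Z.topIso.hom)
    rw [hfac, Scheme.Hom.comp_appTop, Scheme.Hom.comp_appTop]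
    infer_instance
  -- flat base change
  have H : IsPullback (pullback.fst g t) (pullback.snd g t) g t := IsPullback.of_hasPullback g t
  haveI : CompactSpace E := QuasiCompact.compactSpace_of_compactSpace g
  haveI : QuasiSeparatedSpace E := quasiSeparatedSpace_of_quasiSeparated g
  have hP := (isIso_pushoutSection_iff H (US := ⊤) (UT := ⊤) (UX := ⊤) le_top le_top (UY := ⊤) (by simp)).1
    (isIso_pushoutSection_of_isQuasiSeparated_of_flat_right H le_top le_top (by simp) (isAffineOpen_top S)
      (isAffineOpen_top T) isCompact_univ isQuasiSeparated_univ)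
  have hP' : IsPushout t.appTop g.appTop (pullback.snd g t).appTop (pullback.fst g t).appTop := by
    simpa [Scheme.Hom.appTop, Scheme.Hom.app_eq_appLE] using hP.flip
  refine finite_etale_of_isPushout hP' ?_ ?_ ?_
  · exact (Flat.flat_and_surjective_iff_faithfullyFlat_of_isAffine (f := t)).1 ⟨inferInstance, inferInstance⟩
  · rw [← hj, Scheme.Hom.comp_appTop, CommRingCat.hom_comp]
    exact RingHom.Finite.comp (RingHom.Finite.of_surjective _
      (ConcreteCategory.bijective_of_isIso j.appTop).surjective)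
      (by simpa [Scheme.Hom.appTop] using IsFinite.finite_app (f := z) ⊤ (isAffineOpen_top T))
  · rw [← hj, Scheme.Hom.comp_appTop, CommRingCat.hom_comp]
    exact RingHom.Etale.respectsIso.left _ (asIso j.appTop).commRingCatIsoToRingEquiv
      (HasRingHomProperty.appTop @Etale _ inferInstance)

end Groth.Agent.PurePairDesc
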